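import Groth.Prelude.Def_NonAbH1
import Mathlib.CategoryTheory.Sites.Whiskering

/-!
# The boundary map of non-abelian cohomology
-/

set_option autoImplicit false

universe w v u

open CategoryTheory Opposite

namespace Groth.Agent.CechTors.Boundary

variable {C : Type u} [Category.{v} C] {J : GrothendieckTopology C} {F G : Sheaf J GrpCat.{w}}

/-- An equivariant morphism bijective on sections is an isomorphism. -/
theorem nonempty_iso_of_bijective {P Q : NonAbH1.GSheaf G} (f : P ⟶ Q)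
    (hf : ∀ U : Cᵒᵖ, Function.Bijective (f.hom.hom.app U)) : Nonempty (P ≅ Q) := by
  let e : ∀ U : Cᵒᵖ, P.P.obj.obj U ≃ Q.P.obj.obj U := fun U => Equiv.ofBijective _ (hf U)
  have he : ∀ (U : Cᵒᵖ) p, e U p = f.hom.hom.app U p := fun _ _ => rfl
  let f' : Q ⟶ P :=
    { hom := ⟨{ app := fun U => TypeCat.ofHom (e U).symm
                naturality := fun U V k => by
                  refine ConcreteCategory.hom_ext _ _ fun q => (hf V).1 ?_
                  show e V ((e V).symm (Q.P.obj.map k q)) = f.hom.hom.app V (P.P.obj.map k ((e U).symm q))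
                  rw [Equiv.apply_symm_apply, NatTrans.naturality_apply, ← he, Equiv.apply_symm_apply] }⟩
      map_smul := fun {U} g q => (hf U).1 (by
        show e U ((e U).symm (Q.smul g q)) = f.hom.hom.app U (P.smul g ((e U).symm q))
        rw [Equiv.apply_symm_apply, f.map_smul, ← he, Equiv.apply_symm_apply]) }
  refine ⟨⟨f, f', ?_, ?_⟩⟩
  · ext U p
    exact (e U).symm_apply_apply p
  · ext U q
    exact (e U).apply_symm_apply q

variable [J.HasSheafCompose (forget GrpCat.{w})]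

open NonAbH1.GSheaf in
theorem isTrivial_of_sections (T : NonAbH1.Torsor F) (s : T.P.obj.sections) :
    Nonempty (trivial F ≅ T.toGSheaf) := by
  refine nonempty_iso_of_bijective
    { hom := ⟨{ app := fun U => TypeCat.ofHom fun f => T.smul (toGrp f) (s.1 U)
                naturality := fun U V k => by
                  refine ConcreteCategory.hom_ext _ _ fun f => ?_
                  show T.smul (F.obj.map k (toGrp f)) (s.1 V) = T.P.obj.map k (T.smul (toGrp f) (s.1 U))
                  rw [T.map_smul]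
                  exact congrArg _ (s.2 k).symm }⟩
      map_smul := fun {U} g f => T.mul_smul g (toGrp f) (s.1 U) } fun U => ?_
  exact ⟨fun f f' h => (T.isTorsor.1 U (s.1 U) _).unique h rfl,
    fun t => (T.isTorsor.1 U (s.1 U) t).exists⟩

theorem equivalence_iso : Equivalence fun P Q : NonAbH1.Torsor G => Nonempty (P.toGSheaf ≅ Q.toGSheaf) where
  refl _ := ⟨Iso.refl _⟩
  symm := fun ⟨e⟩ => ⟨e.symm⟩
  trans := fun ⟨e⟩ ⟨e'⟩ => ⟨e ≪≫ e'⟩

variable {u : F ⟶ G} {Q : NonAbH1.GSheaf G} {π : NonAbH1.GSheaf.trivial G ⟶ Q}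

/-- `π` on elements of the group. -/
abbrev pr (π : NonAbH1.GSheaf.trivial G ⟶ Q) {U : Cᵒᵖ} (g : G.obj.obj U) : Q.P.obj.obj U :=
  π.hom.hom.app U (NonAbH1.GSheaf.ofGrp g)

theorem pr_mul {U : Cᵒᵖ} (h g : G.obj.obj U) : pr π (h * g) = Q.smul h (pr π g) :=
  π.map_smul h (NonAbH1.GSheaf.ofGrp g)

theorem pr_map {U V : Cᵒᵖ} (k : U ⟶ V) (g : G.obj.obj U) : pr π (G.obj.map k g) = Q.P.obj.map k (pr π g) :=
  NatTrans.naturality_apply π.hom.hom k (NonAbH1.GSheaf.ofGrp g)

theorem sheaf_uSh : Presieve.IsSheaf J (NonAbH1.GSheaf.uSh G).obj :=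
  (isSheaf_iff_isSheaf_of_type _ _).mp (NonAbH1.GSheaf.uSh G).property

theorem sheaf_P (P : NonAbH1.GSheaf F) : Presieve.IsSheaf J P.P.obj :=
  (isSheaf_iff_isSheaf_of_type _ _).mp P.P.property

theorem isTorsor_of_isFibreOver (hu : ∀ U, Function.Injective (u.hom.app U)) (hQ : NonAbH1.GSheaf.IsQuotientBy u π)
    {c : Q.P.obj.sections} {T : NonAbH1.GSheaf F} (hT : NonAbH1.GSheaf.IsFibreOver u π c T) : T.IsTorsor := by
  obtain ⟨io, hinj, hrange, hsmul⟩ := hT
  refine ⟨fun U p q => ?_, fun U => ?_⟩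
  · obtain ⟨f, hf⟩ := (hQ.1 U _ _).mp (((hrange U _).mp ⟨p, rfl⟩).trans ((hrange U _).mp ⟨q, rfl⟩).symm)
    refine ⟨f⁻¹, hinj U ?_, fun g hg => hu U ?_⟩
    · show NonAbH1.GSheaf.toGrp (io.hom.app U (T.smul f⁻¹ p)) = _
      rw [hsmul, map_inv, inv_inv]
      exact hf.symm
    · have h1 := hsmul U g p
      rw [hg, hf] at h1
      rw [map_inv, mul_left_cancel h1, inv_inv]
  · obtain ⟨S, hS, hg⟩ := hQ.2 U (c.1 (op U))
    refine ⟨S, hS, fun V a ha => ?_⟩
    obtain ⟨g, hg⟩ := hg a ha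
    obtain ⟨t, -⟩ := (hrange (op V) g).mpr (hg.trans (c.2 a.op))
    exact ⟨t⟩

open NonAbH1.GSheaf in
theorem nonempty_iso_of_shift {c c' : Q.P.obj.sections} {T T' : NonAbH1.GSheaf F}
    (hT : IsFibreOver u π c T) (hT' : IsFibreOver u π c' T') (g : (uSh G).obj.sections)
    (hg : ∀ U, Q.smul (toGrp (g.1 U)) (c.1 U) = c'.1 U) : Nonempty (T ≅ T') := by
  obtain ⟨io, hinj, hrange, hsmul⟩ := hT
  obtain ⟨io', hinj', hrange', hsmul'⟩ := hT'
  have hex : ∀ (U : Cᵒᵖ) (t : T.P.obj.obj U), ∃ t', toGrp (io'.hom.app U t') = toGrp (g.1 U) * toGrp (io.hom.app U t) :=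
    fun U t => (hrange' U _).mpr (by
      show pr π _ = _
      rw [pr_mul, show pr π _ = c.1 U from (hrange U _).mp ⟨t, rfl⟩, hg])
  choose m hm using hex
  refine nonempty_iso_of_bijective
    { hom := ⟨{ app := fun U => TypeCat.ofHom (m U)
                naturality := fun U V k => by
                  refine ConcreteCategory.hom_ext _ _ fun t => hinj' V ?_
                  show toGrp (io'.hom.app V (m V (T.P.obj.map k t))) = io'.hom.app V (T'.P.obj.map k (m U t))
                  rw [hm, NatTrans.naturality_apply io'.hom, NatTrans.naturality_apply io.hom]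
                  show _ = G.obj.map k (toGrp (io'.hom.app U (m U t)))
                  rw [hm, map_mul]
                  exact congrArg₂ (· * ·) (g.2 k).symm rfl }⟩
      map_smul := fun {U} f t => hinj' U (by
        show toGrp (io'.hom.app U (m U (T.smul f t))) = toGrp (io'.hom.app U (T'.smul f (m U t)))
        rw [hm, hsmul, hsmul', hm, mul_assoc]) } fun U => ⟨fun t t' h => hinj U ?_, fun t' => ?_⟩
  · have h2 := congrArg (fun x => toGrp (io'.hom.app U x)) (show m U t = m U t' from h)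
    simp only [hm] at h2
    exact mul_left_cancel (G := ↑(G.obj.obj U)) h2
  · obtain ⟨t, ht⟩ := (hrange U ((toGrp (g.1 U))⁻¹ * toGrp (io'.hom.app U t'))).mpr (by
      show pr π _ = _
      rw [pr_mul, show pr π _ = c'.1 U from (hrange' U _).mp ⟨t', rfl⟩, ← hg, ← Q.mul_smul, inv_mul_cancel, Q.one_smul])
    refine ⟨t, hinj' U ?_⟩
    show toGrp (io'.hom.app U (m U t)) = _
    rw [hm, ht, mul_inv_cancel_left]

open NonAbH1.GSheaf in
theorem nonempty_iso_of_isFibreOver {c : Q.P.obj.sections} {T T' : NonAbH1.GSheaf F}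
    (hT : IsFibreOver u π c T) (hT' : IsFibreOver u π c T') : Nonempty (T ≅ T') :=
  nonempty_iso_of_shift hT hT' ⟨fun U => ofGrp (1 : G.obj.obj U), fun k => map_one (G.obj.map k).hom⟩
    fun U => Q.one_smul _

open NonAbH1.GSheaf in
theorem exists_fibre (hu : ∀ U, Function.Injective (u.hom.app U)) (hQ : IsQuotientBy u π) (c : Q.P.obj.sections) :
    ∃ T : NonAbH1.Torsor F, IsFibreOver u π c T.toGSheaf := by
  let P : Cᵒᵖ ⥤ Type w :=
    { obj := fun U => {g : G.obj.obj U // pr π g = c.1 U}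
      map := fun {U V} k => TypeCat.ofHom fun g => ⟨G.obj.map k g.1, by rw [pr_map, g.2]; exact c.2 k⟩
      map_id := fun U => ConcreteCategory.hom_ext _ _ fun g => Subtype.ext (by simp)
      map_comp := fun k l => ConcreteCategory.hom_ext _ _ fun g => Subtype.ext (by simp) }
  have hP : Presieve.IsSheaf J P := by
    intro U S hS x hx
    have hsf := sheaf_uSh (G := G) S hS
    let y : Presieve.FamilyOfElements (uSh G).obj S.arrows := fun V a ha => (x a ha).1
    have hy : y.Compatible := fun Y₁ Y₂ Z g₁ g₂ f₁ f₂ h₁ h₂ e => congrArg Subtype.val (hx g₁ g₂ h₁ h₂ e)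
    have hc : pr π (toGrp (hsf.amalgamate y hy)) = c.1 (op U) := by
      refine (sheaf_P Q S hS).isSeparatedFor.ext fun V a ha => ?_
      rw [← pr_map, c.2 a.op]
      exact (congrArg (pr π) (hsf.valid_glue hy a ha)).trans (x a ha).2
    refine ⟨⟨_, hc⟩, fun V a ha => Subtype.ext (hsf.valid_glue hy a ha), fun g hg => Subtype.ext ?_⟩
    exact hsf.isSeparatedFor.ext fun V a ha => (congrArg Subtype.val (hg a ha)).trans (hsf.valid_glue hy a ha).symm
  let T : NonAbH1.GSheaf F :=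
    { P := ⟨P, (isSheaf_iff_isSheaf_of_type J P).mpr hP⟩
      smul := fun {U} f g => ⟨g.1 * (u.hom.app U f)⁻¹,
        ((hQ.1 U g.1 _).mpr ⟨f⁻¹, by rw [map_inv]⟩).symm.trans g.2⟩
      one_smul := fun g => Subtype.ext (by simp)
      mul_smul := fun f f' g => Subtype.ext (by simp [mul_assoc])
      map_smul := fun {U V} k f g => Subtype.ext (by
        show G.obj.map k (g.1 * (u.hom.app U f)⁻¹) = G.obj.map k g.1 * (u.hom.app V (F.obj.map k f))⁻¹
        rw [map_mul, map_inv, NatTrans.naturality_apply]) }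
  have hT : IsFibreOver u π c T :=
    ⟨⟨{ app := fun U => TypeCat.ofHom fun g => ofGrp g.1
        naturality := fun U V k => ConcreteCategory.hom_ext _ _ fun g => rfl }⟩,
      fun U => Subtype.val_injective, fun U g => ⟨fun ⟨t, ht⟩ => ht ▸ t.2, fun h => ⟨⟨g, h⟩, rfl⟩⟩,
      fun U f t => rfl⟩
  exact ⟨⟨T, isTorsor_of_isFibreOver hu hQ hT⟩, hT⟩

open NonAbH1.GSheaf in
theorem isPushforwardAlong_iff (hu : ∀ U, Function.Injective (u.hom.app U)) (hQ : IsQuotientBy u π)
    (T : NonAbH1.Torsor F) :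
    IsPushforwardAlong u T.toGSheaf (trivial G) ↔ ∃ c : Q.P.obj.sections, IsFibreOver u π c T.toGSheaf := by
  refine ⟨fun ⟨f0, hf0⟩ => ?_, fun ⟨c, io, hinj, hrange, hsmul⟩ => ?_⟩
  swap
  · refine ⟨⟨{ app := fun U => TypeCat.ofHom fun t => ofGrp (toGrp (io.hom.app U t))⁻¹
               naturality := fun U V k => ConcreteCategory.hom_ext _ _ fun t => ?_ }⟩, fun U f t => ?_⟩
    · show (toGrp (io.hom.app V (T.P.obj.map k t)))⁻¹ = G.obj.map k (toGrp (io.hom.app U t))⁻¹
      rw [map_inv, NatTrans.naturality_apply io.hom]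
      rfl
    · show (toGrp (io.hom.app U (T.smul f t)))⁻¹ = u.hom.app U f * (toGrp (io.hom.app U t))⁻¹
      rw [hsmul, mul_inv_rev, inv_inv]
  classical
  let j : ∀ (U : Cᵒᵖ), T.P.obj.obj U → G.obj.obj U := fun U t => (toGrp (f0.hom.app U t))⁻¹
  have hjs : ∀ U f t, j U (T.smul f t) = j U t * (u.hom.app U f)⁻¹ := fun U f t => by
    show (toGrp (f0.hom.app U (T.smul f t)))⁻¹ = _
    rw [hf0]
    exact mul_inv_rev _ _
  have hjn : ∀ {U V : Cᵒᵖ} (k : U ⟶ V) t, j V (T.P.obj.map k t) = G.obj.map k (j U t) := fun {U V} k t => by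
    show (toGrp (f0.hom.app V (T.P.obj.map k t)))⁻¹ = G.obj.map k (toGrp (f0.hom.app U t))⁻¹
    rw [map_inv, NatTrans.naturality_apply f0.hom]
    rfl
  have hji : ∀ U, Function.Injective (j U) := fun U t t' h => by
    obtain ⟨f, rfl, -⟩ := T.isTorsor.1 U t t'
    rw [hjs] at h
    have hf : u.hom.app U f = u.hom.app U 1 := by
      rw [map_one]; exact inv_eq_one.mp (mul_eq_left.mp h.symm)
    rw [hu U hf, T.one_smul]
  have hconst : ∀ U t t', pr π (j U t) = pr π (j U t') := fun U t t' => by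
    obtain ⟨f, rfl, -⟩ := T.isTorsor.1 U t t'
    exact (hQ.1 U _ _).mpr ⟨f⁻¹, by rw [hjs, map_inv]⟩
  have hne : ∀ U : C, ∃ S ∈ J U, ∀ ⦃V : C⦄ (a : V ⟶ U), S a → Nonempty (T.P.obj.obj (op V)) := T.isTorsor.2
  choose S hS hSne using hne
  let x : ∀ U : C, Presieve.FamilyOfElements Q.P.obj (S U).arrows := fun U V a ha => pr π (j (op V) (hSne U a ha).some)
  have hx : ∀ U, (x U).Compatible := fun U Y₁ Y₂ Z g₁ g₂ f₁ f₂ h₁ h₂ e => by
    show Q.P.obj.map g₁.op (pr π _) = Q.P.obj.map g₂.op (pr π _)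
    rw [← pr_map, ← pr_map, ← hjn, ← hjn]
    exact hconst _ _ _
  let cU : ∀ U : C, Q.P.obj.obj (op U) := fun U => (sheaf_P Q (S U) (hS U)).amalgamate (x U) (hx U)
  have hcU : ∀ (U V : C) (a : V ⟶ U) (t : T.P.obj.obj (op V)), Q.P.obj.map a.op (cU U) = pr π (j (op V) t) := by
    intro U V a t
    refine (sheaf_P Q ((S U).pullback a) (J.pullback_stable a (hS U))).isSeparatedFor.ext fun W k hk => ?_
    rw [← ConcreteCategory.comp_apply, ← Functor.map_comp, ← op_comp,
      show Q.P.obj.map (k ≫ a).op (cU U) = x U (k ≫ a) hk from (sheaf_P Q (S U) (hS U)).valid_glue (hx U) (k ≫ a) hk,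
      ← pr_map, ← hjn]
    exact hconst _ _ _
  let c : Q.P.obj.sections := ⟨fun U => cU U.unop, fun {U V} k => by
    refine (sheaf_P Q (S V.unop) (hS V.unop)).isSeparatedFor.ext fun W a ha => ?_
    rw [hcU V.unop W a (hSne _ a ha).some, ← ConcreteCategory.comp_apply, ← Functor.map_comp]
    exact hcU U.unop W (a ≫ k.unop) _⟩
  refine ⟨c, ⟨{ app := fun U => TypeCat.ofHom fun t => ofGrp (j U t)
                naturality := fun U V k => ConcreteCategory.hom_ext _ _ fun t => hjn k t }⟩,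
    fun U => hji U, fun U g => ⟨?_, fun hg => ?_⟩, fun U f t => hjs U f t⟩
  · rintro ⟨t, rfl⟩
    have h1 := hcU U.unop U.unop (𝟙 _) t
    refine h1.symm.trans ?_
    show Q.P.obj.map (𝟙 (op U.unop)) (cU U.unop) = cU U.unop
    simp
  · obtain ⟨U⟩ := U
    have hloc : ∀ (V : C) (a : V ⟶ U), S U a → ∃ t, j (op V) t = G.obj.map a.op g := fun V a ha => by
      obtain ⟨t⟩ := hSne U a ha
      have h1 : pr π (j (op V) t) = pr π (G.obj.map a.op g) := by
        rw [pr_map, show pr π g = cU U from hg, hcU U V a t]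
      obtain ⟨f, hf⟩ := (hQ.1 (op V) _ _).mp h1
      exact ⟨T.smul f⁻¹ t, by rw [hjs, hf, map_inv, inv_inv]⟩
    choose t ht using hloc
    have hsf := sheaf_P T.toGSheaf (S U) (hS U)
    have hy : Presieve.FamilyOfElements.Compatible (fun V a ha => t V a ha :
        Presieve.FamilyOfElements T.P.obj (S U).arrows) := fun Y₁ Y₂ Z g₁ g₂ f₁ f₂ h₁ h₂ e => hji _ (by
      rw [hjn, hjn, ht, ht, ← ConcreteCategory.comp_apply, ← Functor.map_comp, ← op_comp,
        ← ConcreteCategory.comp_apply, ← Functor.map_comp, ← op_comp, e])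
    refine ⟨hsf.amalgamate _ hy, ?_⟩
    show j (op U) _ = g
    refine (sheaf_uSh (G := G) (S U) (hS U)).isSeparatedFor.ext fun V a ha => ?_
    show G.obj.map a.op (j (op U) _) = G.obj.map a.op g
    rw [← hjn, hsf.valid_glue hy a ha, ht]

open NonAbH1.GSheaf in
theorem nonempty_iso_iff (hu : ∀ U, Function.Injective (u.hom.app U)) (hQ : IsQuotientBy u π)
    {c c' : Q.P.obj.sections} {T T' : NonAbH1.GSheaf F}
    (hT : IsFibreOver u π c T) (hT' : IsFibreOver u π c' T') :
    Nonempty (T ≅ T') ↔ ∃ g : (uSh G).obj.sections, ∀ U, Q.smul (toGrp (g.1 U)) (c.1 U) = c'.1 U := by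
  refine ⟨fun ⟨e⟩ => ?_, fun ⟨g, hg⟩ => nonempty_iso_of_shift hT hT' g hg⟩
  classical
  have htor := isTorsor_of_isFibreOver hu hQ hT
  obtain ⟨io, hinj, hrange, hsmul⟩ := hT
  obtain ⟨io', hinj', hrange', hsmul'⟩ := hT'
  let d : ∀ U, T.P.obj.obj U → G.obj.obj U := fun U t =>
    toGrp (io'.hom.app U (e.hom.hom.hom.app U t)) * (toGrp (io.hom.app U t))⁻¹
  have hconst : ∀ U t t', d U t = d U t' := fun U t t' => by
    obtain ⟨f, rfl, -⟩ := htor.1 U t t'
    simp only [d, e.hom.map_smul, hsmul, hsmul', mul_inv_rev, inv_inv, mul_assoc, inv_mul_cancel_left]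
  have hdn : ∀ {U V : Cᵒᵖ} (k : U ⟶ V) t, d V (T.P.obj.map k t) = G.obj.map k (d U t) := fun {U V} k t => by
    simp only [d, map_mul, map_inv]
    rw [NatTrans.naturality_apply e.hom.hom.hom, NatTrans.naturality_apply io'.hom, NatTrans.naturality_apply io.hom]
    rfl
  choose S hS hSne using htor.2
  let x : ∀ U : C, Presieve.FamilyOfElements (uSh G).obj (S U).arrows := fun U V a ha => ofGrp (d (op V) (hSne U a ha).some)
  have hx : ∀ U, (x U).Compatible := fun U Y₁ Y₂ Z g₁ g₂ f₁ f₂ h₁ h₂ e' => by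
    show G.obj.map g₁.op (d _ _) = G.obj.map g₂.op (d _ _)
    rw [← hdn, ← hdn]
    exact hconst _ _ _
  let gU : ∀ U : C, (uSh G).obj.obj (op U) := fun U => (sheaf_uSh (G := G) (S U) (hS U)).amalgamate (x U) (hx U)
  have hgU : ∀ (U V : C) (a : V ⟶ U) (t : T.P.obj.obj (op V)), (uSh G).obj.map a.op (gU U) = ofGrp (d (op V) t) := by
    intro U V a t
    refine (sheaf_uSh (G := G) ((S U).pullback a) (J.pullback_stable a (hS U))).isSeparatedFor.ext fun W k hk => ?_
    rw [← ConcreteCategory.comp_apply, ← Functor.map_comp, ← op_comp,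
      show (uSh G).obj.map (k ≫ a).op (gU U) = x U (k ≫ a) hk from
        (sheaf_uSh (G := G) (S U) (hS U)).valid_glue (hx U) (k ≫ a) hk]
    show d _ _ = G.obj.map k.op (d _ _)
    rw [← hdn]
    exact hconst _ _ _
  let g : (uSh G).obj.sections := ⟨fun U => gU U.unop, fun {U V} k => by
    refine (sheaf_uSh (G := G) (S V.unop) (hS V.unop)).isSeparatedFor.ext fun W a ha => ?_
    rw [hgU V.unop W a (hSne _ a ha).some, ← ConcreteCategory.comp_apply, ← Functor.map_comp]
    exact hgU U.unop W (a ≫ k.unop) _⟩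
  refine ⟨g, fun U => ?_⟩
  obtain ⟨U⟩ := U
  refine (sheaf_P Q (S U) (hS U)).isSeparatedFor.ext fun V a ha => ?_
  obtain ⟨t⟩ := hSne U a ha
  rw [Q.map_smul, c.2, c'.2, ← (hrange (op V) _).mp ⟨t, rfl⟩, ← (hrange' (op V) _).mp ⟨e.hom.hom.hom.app _ t, rfl⟩]
  show Q.smul (G.obj.map a.op (toGrp (gU U))) (pr π (toGrp (io.hom.app (op V) t))) = pr π _
  rw [← pr_mul]
  refine congrArg (pr π) ?_
  rw [show G.obj.map a.op (toGrp (gU U)) = d (op V) t from hgU U V a t]
  exact inv_mul_cancel_right _ _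

open NonAbH1.GSheaf in
theorem cl_eq_one_iff {c : Q.P.obj.sections} (T : NonAbH1.Torsor F) (hT : IsFibreOver u π c T.toGSheaf) :
    T.cl = 1 ↔ ∃ g : (uSh G).obj.sections, ∀ U, π.hom.hom.app U (g.1 U) = c.1 U := by
  obtain ⟨io, hinj, hrange, hsmul⟩ := hT
  refine ⟨fun h => ?_, fun ⟨g, hg⟩ => ?_⟩
  · obtain ⟨e⟩ := (equivalence_iso.quot_mk_eq_iff T (NonAbH1.trivialTorsor F)).mp h
    let s : ∀ U : Cᵒᵖ, T.P.obj.obj U := fun U => e.inv.hom.hom.app U (ofGrp (1 : F.obj.obj U))
    refine ⟨⟨fun U => io.hom.app U (s U), fun {U V} k => ?_⟩, fun U => (hrange U _).mp ⟨s U, rfl⟩⟩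
    rw [← NatTrans.naturality_apply io.hom]
    refine congrArg _ ((NatTrans.naturality_apply e.inv.hom.hom k _).symm.trans ?_)
    exact congrArg _ (map_one (F.obj.map k).hom)
  · choose s hs using fun U => (hrange U (toGrp (g.1 U))).mpr (hg U)
    obtain ⟨e⟩ := isTrivial_of_sections T ⟨s, fun {U V} k => hinj V (by
      rw [NatTrans.naturality_apply io.hom]
      exact ((congrArg ((uSh G).obj.map k) (hs U)).trans (g.2 k)).trans (hs V).symm)⟩
    exact Quot.sound ⟨e.symm⟩

end Groth.Agent.CechTors.Boundary
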