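import Groth.Prelude.Def_NonAbH1
import Mathlib.CategoryTheory.Sites.CoversTop.Basic
import Mathlib.Algebra.Category.Grp.Yoneda
import Mathlib.Logic.Small.Basic

/-!
# The torsor with a given Čech cocycle
-/

set_option autoImplicit false

universe w' w v u

open CategoryTheory Opposite

namespace Groth.Agent.CechTors

variable {C : Type u} [Category.{v} C] {J : GrothendieckTopology C} (G : Sheaf J GrpCat.{w}) {I : Type w'}
  {U : I → C} (γ : PresheafOfGroups.OneCocycle G.obj U)

theorem isSheaf_forget : Presieve.IsSheaf J (G.obj ⋙ forget GrpCat.{w}) :=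
  Presieve.isSheaf_iso J (Functor.isoWhiskerLeft G.obj GrpCat.coyonedaObjIsoForget)
    (G.property (GrpCat.of (ULift.{w} (Multiplicative ℤ))))

variable {G}

/-- A section over `T` of the torsor of `γ`: its transporters from the distinguished sections. -/
@[ext]
structure Fam (T : C) where
  /-- the transporters -/
  ev (V : C) (a : V ⟶ T) (i : I) (b : V ⟶ U i) : G.obj.obj (op V)
  natural : ∀ (W V : C) (k : W ⟶ V) (a : V ⟶ T) (i : I) (b : V ⟶ U i),
    G.obj.map k.op (ev V a i b) = ev W (k ≫ a) i (k ≫ b)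
  trans : ∀ (V : C) (a : V ⟶ T) (i j : I) (b : V ⟶ U i) (c : V ⟶ U j), ev V a i b * γ.ev i j b c = ev V a j c

namespace Fam

variable {γ} {T T' : C}

/-- Restriction. -/
def map (k : T' ⟶ T) (f : Fam γ T) : Fam γ T' where
  ev V a i b := f.ev V (a ≫ k) i b
  natural W V l a i b := by rw [f.natural, Category.assoc]
  trans V a i j b c := f.trans _ _ _ _ _ _

theorem map_id (f : Fam γ T) : map (𝟙 T) f = f := by
  ext V a i b; simp [map]

theorem map_comp {T'' : C} (k : T' ⟶ T) (l : T'' ⟶ T') (f : Fam γ T) : map (l ≫ k) f = map l (map k f) := by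
  ext V a i b; simp [map]

/-- The action. -/
def smul (g : G.obj.obj (op T)) (f : Fam γ T) : Fam γ T where
  ev V a i b := G.obj.map a.op g * f.ev V a i b
  natural W V l a i b := by
    rw [map_mul, f.natural, ← ConcreteCategory.comp_apply, ← Functor.map_comp, ← op_comp]
  trans V a i j b c := by rw [mul_assoc, f.trans]

/-- The distinguished section over `U j`. -/
def std (j : I) : Fam γ (U j) where
  ev _ a i b := γ.ev j i a b
  natural W V k a i b := γ.ev_precomp _ _ k a b
  trans V a i k b c := γ.ev_trans _ _ _ a b c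

variable (hU : J.CoversTop U)
include hU

theorem eq_of_smul_eq (f : Fam γ T) {g g' : G.obj.obj (op T)} (h : smul g f = smul g' f) : g = g' := by
  refine (isSheaf_forget G _ (hU T)).isSeparatedFor.ext ?_
  rintro V a ⟨i, ⟨b⟩⟩
  exact mul_right_cancel (congrFun (congrFun (congrFun (congrFun (congrArg Fam.ev h) V) a) i) b)

theorem exists_smul_eq (f f' : Fam γ T) : ∃ g, smul g f = f' := by
  classical
  have key : ∀ (V : C) (a : V ⟶ T) (i j : I) (b : V ⟶ U i) (c : V ⟶ U j),
      f'.ev V a i b * (f.ev V a i b)⁻¹ = f'.ev V a j c * (f.ev V a j c)⁻¹ := by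
    intro V a i j b c
    rw [← f.trans V a i j b c, ← f'.trans V a i j b c, mul_inv_rev, mul_assoc, mul_inv_cancel_left]
  let x : Presieve.FamilyOfElements (G.obj ⋙ forget GrpCat.{w}) (Sieve.ofObjects U T).arrows := fun V a ha =>
    f'.ev V a ha.choose ha.choose_spec.some * (f.ev V a ha.choose ha.choose_spec.some)⁻¹
  have hx : x.Compatible := by
    intro Y₁ Y₂ Z k₁ k₂ a₁ a₂ h₁ h₂ e
    show G.obj.map k₁.op _ = G.obj.map k₂.op _
    rw [map_mul, map_mul, map_inv, map_inv, f.natural, f.natural, f'.natural, f'.natural, e]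
    exact key _ _ _ _ _ _
  have hsf := isSheaf_forget G _ (hU T)
  refine ⟨hsf.amalgamate x hx, ?_⟩
  ext V a i b
  have e : G.obj.map a.op (hsf.amalgamate x hx) = x a ⟨i, ⟨b⟩⟩ := hsf.valid_glue hx a ⟨i, ⟨b⟩⟩
  show G.obj.map a.op _ * f.ev V a i b = _
  rw [e]
  show f'.ev V a _ _ * (f.ev V a _ _)⁻¹ * f.ev V a i b = _
  rw [key V a _ i _ b, inv_mul_cancel_right]

theorem small (T : C) : Small.{w} (Fam γ T) := by
  rcases isEmpty_or_nonempty (Fam γ T) with h | ⟨⟨f⟩⟩
  · infer_instance
  · exact small_of_surjective (f := fun g => smul g f) (exists_smul_eq hU f)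

omit hU in
/-- A compatible family of sections has an amalgamation. -/
theorem exists_glue {S : Sieve T} (hS : S ∈ J T) (x : ∀ ⦃W : C⦄ (a : W ⟶ T), S a → Fam γ W)
    (hx : ∀ ⦃W V : C⦄ (k : W ⟶ V) (a : V ⟶ T) (ha : S a), map k (x a ha) = x (k ≫ a) (S.downward_closed ha k)) :
    ∃ f : Fam γ T, ∀ ⦃W : C⦄ (a : W ⟶ T) (ha : S a), map a f = x a ha := by
  classical
  have hsh := isSheaf_forget G
  let y : ∀ (V : C) (a : V ⟶ T) (i : I) (b : V ⟶ U i),
      Presieve.FamilyOfElements (G.obj ⋙ forget GrpCat.{w}) (S.pullback a).arrows := fun V a i b W k hk =>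
    (x (k ≫ a) hk).ev W (𝟙 W) i (k ≫ b)
  have hmap : ∀ {W V : C} (k : W ⟶ V) (a : V ⟶ T) (ha : S a) (i : I) (b : V ⟶ U i),
      G.obj.map k.op ((x a ha).ev V (𝟙 V) i b) = (x (k ≫ a) (S.downward_closed ha k)).ev W (𝟙 W) i (k ≫ b) := by
    intro W V k a ha i b
    rw [(x a ha).natural, ← hx k a ha]
    simp [map]
  have hy : ∀ V a i b, (y V a i b).Compatible := by
    intro V a i b
    rw [Presieve.compatible_iff_sieveCompatible]
    intro W W' k l hk
    show (x ((l ≫ k) ≫ a) _).ev W' (𝟙 W') i ((l ≫ k) ≫ b) = G.obj.map l.op ((x (k ≫ a) hk).ev W (𝟙 W) i (k ≫ b))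
    rw [hmap l (k ≫ a) hk i (k ≫ b)]
    simp only [Category.assoc]
  let ev : ∀ (V : C) (a : V ⟶ T) (i : I) (b : V ⟶ U i), G.obj.obj (op V) := fun V a i b =>
    (hsh (S.pullback a) (J.pullback_stable a hS)).amalgamate (y V a i b) (hy V a i b)
  have hev : ∀ (V : C) (a : V ⟶ T) (i : I) (b : V ⟶ U i) (W : C) (k : W ⟶ V) (hk : S (k ≫ a)),
      G.obj.map k.op (ev V a i b) = (x (k ≫ a) hk).ev W (𝟙 W) i (k ≫ b) := fun V a i b W k hk =>
    (hsh (S.pullback a) (J.pullback_stable a hS)).valid_glue (hy V a i b) k hk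
  let f : Fam γ T :=
    { ev := ev
      natural := fun W V k a i b => by
        refine ((hsh (S.pullback (k ≫ a)) (J.pullback_stable _ hS))).isSeparatedFor.ext fun Z l hl => ?_
        show G.obj.map l.op (G.obj.map k.op (ev V a i b)) = G.obj.map l.op (ev W (k ≫ a) i (k ≫ b))
        rw [hev W (k ≫ a) i (k ≫ b) Z l hl, ← ConcreteCategory.comp_apply, ← Functor.map_comp, ← op_comp,
          hev V a i b Z (l ≫ k) (by rw [Category.assoc]; exact hl)]
        simp only [Category.assoc]
      trans := fun V a i j b c => by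
        refine (hsh (S.pullback a) (J.pullback_stable _ hS)).isSeparatedFor.ext fun Z l hl => ?_
        show G.obj.map l.op (ev V a i b * γ.ev i j b c) = G.obj.map l.op (ev V a j c)
        rw [map_mul, hev V a i b Z l hl, hev V a j c Z l hl, γ.ev_precomp, (x (l ≫ a) hl).trans] }
  refine ⟨f, fun W a ha => ?_⟩
  ext V k i b
  show ev V (k ≫ a) i b = (x a ha).ev V k i b
  have h1 := hev V (k ≫ a) i b V (𝟙 V) (by rw [Category.id_comp]; exact S.downward_closed ha k)
  simp only [Category.id_comp] at h1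
  have h2 : ev V (k ≫ a) i b = G.obj.map (𝟙 V).op (ev V (k ≫ a) i b) := by simp
  rw [h2, h1, ← hx k a ha]
  simp [map]

omit hU in
theorem ext_of_cover {S : Sieve T} (hS : S ∈ J T) {f f' : Fam γ T}
    (h : ∀ ⦃W : C⦄ (a : W ⟶ T), S a → map a f = map a f') : f = f' := by
  ext V a i b
  refine (isSheaf_forget G (S.pullback a) (J.pullback_stable _ hS)).isSeparatedFor.ext fun Z l hl => ?_
  show G.obj.map l.op (f.ev V a i b) = G.obj.map l.op (f'.ev V a i b)
  rw [f.natural, f'.natural]
  have := congrArg (fun F : Fam γ Z => F.ev Z (𝟙 Z) i (l ≫ b)) (h (l ≫ a) hl)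
  simpa [map] using this

end Fam

/-- Every cocycle on a covering family is cut out by a torsor. -/
theorem exists_torsor (hU : J.CoversTop U) :
    ∃ (P : NonAbH1.Torsor G) (s : ∀ i, P.P.obj.obj (op (U i))), P.IsCocycleOf U s γ := by
  haveI : ∀ T : C, Small.{w} (Fam γ T) := fun T => Fam.small hU T
  let e : ∀ T : C, Fam γ T ≃ Shrink.{w} (Fam γ T) := fun T => equivShrink _
  let F : Cᵒᵖ ⥤ Type w :=
    { obj := fun T => Shrink.{w} (Fam γ T.unop)
      map := fun {T T'} k => TypeCat.ofHom fun p => e T'.unop (Fam.map k.unop ((e T.unop).symm p))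
      map_id := fun T => by
        refine ConcreteCategory.hom_ext _ _ fun p => ?_
        show e T.unop (Fam.map (𝟙 _) ((e T.unop).symm p)) = p
        rw [Fam.map_id, Equiv.apply_symm_apply]
      map_comp := fun {T T' T''} k l => by
        refine ConcreteCategory.hom_ext _ _ fun p => ?_
        show e T''.unop (Fam.map (l.unop ≫ k.unop) ((e T.unop).symm p)) =
          e T''.unop (Fam.map l.unop ((e T'.unop).symm (e T'.unop (Fam.map k.unop ((e T.unop).symm p)))))
        rw [Fam.map_comp, Equiv.symm_apply_apply] }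
  have hF : Presieve.IsSheaf J F := by
    intro T S hS x hx
    rw [Presieve.compatible_iff_sieveCompatible] at hx
    obtain ⟨f, hf⟩ := Fam.exists_glue (γ := γ) hS (fun W a ha => (e W).symm (x a ha)) fun W V k a ha => by
      have h1 : x (k ≫ a) (S.downward_closed ha k) = e W (Fam.map k ((e V).symm (x a ha))) := hx a k ha
      rw [h1, Equiv.symm_apply_apply]
    refine ⟨e T f, fun W a ha => ?_, fun p hp => ?_⟩
    · show e W (Fam.map a ((e T).symm (e T f))) = x a ha
      rw [Equiv.symm_apply_apply, hf a ha, Equiv.apply_symm_apply]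
    · rw [← (e T).symm_apply_eq]
      refine Fam.ext_of_cover hS fun W a ha => ?_
      have h1 : e W (Fam.map a ((e T).symm p)) = x a ha := hp a ha
      rw [hf a ha, ← h1, Equiv.symm_apply_apply]
  let P : NonAbH1.GSheaf G :=
    { P := ⟨F, (isSheaf_iff_isSheaf_of_type J F).mpr hF⟩
      smul := fun {T} g p => e T.unop (Fam.smul g ((e T.unop).symm p))
      one_smul := fun {T} p => by
        refine ((e T.unop).symm_apply_eq).mp ?_ |>.symm
        ext V a i b
        simp [Fam.smul]
      mul_smul := fun {T} g h p => by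
        show e T.unop _ = e T.unop _
        rw [Equiv.symm_apply_apply]
        congr 1
        ext V a i b
        simp [Fam.smul, mul_assoc]
      map_smul := fun {T T'} k g p => by
        show e T'.unop _ = e T'.unop _
        rw [Equiv.symm_apply_apply, show (F.map k p) = e T'.unop (Fam.map k.unop ((e T.unop).symm p)) from rfl,
          Equiv.symm_apply_apply]
        congr 1
        ext V a i b
        simp [Fam.smul, Fam.map] }
  have hps : P.IsPseudoTorsor := fun T p q => by
    obtain ⟨g, hg⟩ := Fam.exists_smul_eq hU ((e T.unop).symm p) ((e T.unop).symm q)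
    refine ⟨g, ((e T.unop).symm_apply_eq.mp hg.symm).symm, fun g' hg' => Fam.eq_of_smul_eq hU ((e T.unop).symm p) ?_⟩
    rw [hg]
    exact ((e T.unop).eq_symm_apply).mpr hg'
  refine ⟨⟨P, hps, fun T => ⟨_, hU T, ?_⟩⟩, fun i => e (U i) (Fam.std i), fun i j T a b => ?_⟩
  · rintro V f ⟨i, ⟨b⟩⟩
    exact ⟨e V (Fam.map b (Fam.std i))⟩
  · show e T (Fam.smul _ ((e T).symm (e T (Fam.map b ((e (U j)).symm (e (U j) (Fam.std j))))))) =
      e T (Fam.map a ((e (U i)).symm (e (U i) (Fam.std i))))
    simp only [Equiv.symm_apply_apply]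
    congr 1
    ext V k l c
    show G.obj.map k.op (γ.ev i j a b) * γ.ev j l (k ≫ b) c = γ.ev i l (k ≫ a) c
    rw [γ.ev_precomp, γ.ev_trans]

end Groth.Agent.CechTors
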