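import Groth.Agent.CechTors.Boundary
import Mathlib.Algebra.Category.Grp.FilteredColimits
import Mathlib.CategoryTheory.Category.ULift
import Mathlib.CategoryTheory.Sites.Over
import Mathlib.CategoryTheory.Sites.Point.Conservative

/-!
# Embedding into a sheaf of groups with trivial torsors
-/

set_option autoImplicit false
set_option linter.unusedSectionVars false

universe u

open CategoryTheory Opposite Limits

namespace Groth.Agent.CechTors.Godement

variable {C : Type (u + 1)} [Category.{u} C] {J : GrothendieckTopology C} {ι : Type u}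
  (Φ : ι → GrothendieckTopology.Point.{u} J)

section Group

variable (K : ι → Type (u + 1)) [∀ i, Group (K i)]

/-- Functions on the fibres. -/
abbrev Fun (U : C) : Type (u + 1) := ∀ i, (Φ i).fiber.obj U → K i

/-- The presheaf of functions on the fibres. -/
def pre : Cᵒᵖ ⥤ GrpCat.{u + 1} where
  obj U := GrpCat.of (Fun Φ K U.unop)
  map {U V} k := GrpCat.ofHom
    { toFun := fun f i e => f i ((Φ i).fiber.map k.unop e)
      map_one' := rfl
      map_mul' := fun _ _ => rfl }
  map_id U := by refine ConcreteCategory.hom_ext _ _ fun f => ?_; funext i e; show f i ((Φ i).fiber.map (𝟙 _) e) = f i e; simp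
  map_comp k l := by
    refine ConcreteCategory.hom_ext _ _ fun f => ?_
    funext i e
    show f i ((Φ i).fiber.map (_ ≫ _) e) = f i ((Φ i).fiber.map _ ((Φ i).fiber.map _ e))
    simp

theorem isSheaf_types : Presieve.IsSheaf J (pre Φ K ⋙ forget GrpCat.{u + 1}) := by
  intro T S hS x hx
  have hl := fun (i : ι) (e : (Φ i).fiber.obj T) => (Φ i).jointly_surjective S hS e
  choose Y a ha y hy using hl
  have key : ∀ i e (Z : C) (b : Z ⟶ T) (hb : S b) (z : (Φ i).fiber.obj Z), (Φ i).fiber.map b z = e →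
      x (a i e) (ha i e) i (y i e) = x b hb i z := by
    intro i e Z b hb z hz
    let el1 : (Φ i).fiber.Elements := ⟨Y i e, y i e⟩
    let el2 : (Φ i).fiber.Elements := ⟨Z, z⟩
    let el0 : (Φ i).fiber.Elements := ⟨T, e⟩
    let f1 : el1 ⟶ el0 := ⟨a i e, hy i e⟩
    let f2 : el2 ⟶ el0 := ⟨b, hz⟩
    obtain ⟨W, p, q, hpq⟩ := IsCofiltered.cospan f1 f2
    have hW : p.1 ≫ a i e = q.1 ≫ b := congrArg Subtype.val hpq
    have := congrFun (congrFun (hx p.1 q.1 (ha i e) hb hW) i) W.2
    change x (a i e) (ha i e) i ((Φ i).fiber.map p.1 W.2) = x b hb i ((Φ i).fiber.map q.1 W.2) at this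
    rw [p.2, q.2] at this
    exact this
  refine ⟨fun i e => x (a i e) (ha i e) i (y i e), fun V b hb => ?_, fun f hf => ?_⟩
  · funext i z
    exact key i _ V b hb z rfl
  · funext i e
    have := congrFun (congrFun (hf (a i e) (ha i e)) i) (y i e)
    change f i ((Φ i).fiber.map (a i e) (y i e)) = _ at this
    rwa [hy] at this

theorem isSheaf_pre : Presheaf.IsSheaf J (pre Φ K) :=
  (Presheaf.isSheaf_iff_isSheaf_comp J _ (forget GrpCat.{u + 1})).mpr
    ((isSheaf_iff_isSheaf_of_type _ _).mpr (isSheaf_types Φ K))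

/-- The sheaf of functions on the fibres. -/
def sheaf : Sheaf J GrpCat.{u + 1} := ⟨pre Φ K, isSheaf_pre Φ K⟩

theorem isTrivial (U : C) [(J.over U).HasSheafCompose (forget GrpCat.{u + 1})]
    (P : NonAbH1.Torsor ((sheaf Φ K).over U)) : P.IsTrivial := by
  classical
  have ps := P.isTorsor.1
  -- base sections near every point of the fibres of `U`
  have hanchor : ∀ i (e : (Φ i).fiber.obj U), ∃ (Z : Over U) (z : (Φ i).fiber.obj Z.left),
      (Φ i).fiber.map Z.hom z = e ∧ Nonempty (P.P.obj.obj (op Z)) := fun i e => by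
    obtain ⟨S, hS, hne⟩ := P.isTorsor.2 (Over.mk (𝟙 U))
    obtain ⟨Y, a, ⟨Z, g, h, hg, rfl⟩, y, hy⟩ := (Φ i).jointly_surjective _ ((J.mem_over_iff S).mp hS) e
    refine ⟨Z, (Φ i).fiber.map h y, ?_, hne g hg⟩
    refine Eq.trans ?_ hy
    have e1 : Z.hom = g.left := (Over.w g).symm.trans (Category.comp_id _)
    show (Φ i).fiber.map Z.hom ((Φ i).fiber.map h y) = (Φ i).fiber.map (h ≫ g.left) y
    rw [e1]
    exact (Functor.map_comp_apply (Φ i).fiber h g.left y).symm
  choose Z z hz hs using hanchor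
  let s := fun i e => (hs i e).some
  -- the value at a point of the fibre
  let Val : ∀ (i : ι) (W : Over U) (r : P.P.obj.obj (op W)) (e : (Φ i).fiber.obj W.left), K i → Prop :=
    fun i W r e k => ∀ (e0 : (Φ i).fiber.obj U) (_ : (Φ i).fiber.map W.hom e = e0) (Y : Over U) (a : Y ⟶ W)
      (b : Y ⟶ Z i e0) (y : (Φ i).fiber.obj Y.left), (Φ i).fiber.map a.left y = e →
      (Φ i).fiber.map b.left y = z i e0 → ∀ d : ((sheaf Φ K).over U).obj.obj (op Y),
      P.smul d (P.P.obj.map a.op r) = P.P.obj.map b.op (s i e0) → (d : Fun Φ K Y.left) i y = k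
  have hnat : ∀ (i : ι) {Y Y' : Over U} (m : Y' ⟶ Y) (d : ((sheaf Φ K).over U).obj.obj (op Y))
      (y' : (Φ i).fiber.obj Y'.left),
      (((sheaf Φ K).over U).obj.map m.op d : Fun Φ K Y'.left) i y' =
        (d : Fun Φ K Y.left) i ((Φ i).fiber.map m.left y') := fun i Y Y' m d y' => rfl
  have hrefine : ∀ (i : ι) (W1 W2 : Over U) (y1 : (Φ i).fiber.obj W1.left) (y2 : (Φ i).fiber.obj W2.left),
      (Φ i).fiber.map W1.hom y1 = (Φ i).fiber.map W2.hom y2 → ∃ (Y : Over U) (p : Y ⟶ W1) (q : Y ⟶ W2)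
        (y : (Φ i).fiber.obj Y.left), (Φ i).fiber.map p.left y = y1 ∧ (Φ i).fiber.map q.left y = y2 := by
    intro i W1 W2 y1 y2 hh
    let el1 : (Φ i).fiber.Elements := ⟨W1.left, y1⟩
    let el2 : (Φ i).fiber.Elements := ⟨W2.left, y2⟩
    let el0 : (Φ i).fiber.Elements := ⟨U, (Φ i).fiber.map W2.hom y2⟩
    let f1 : el1 ⟶ el0 := ⟨W1.hom, hh⟩
    let f2 : el2 ⟶ el0 := ⟨W2.hom, rfl⟩
    obtain ⟨L, p, q, hpq⟩ := IsCofiltered.cospan f1 f2
    have hw : p.1 ≫ W1.hom = q.1 ≫ W2.hom := congrArg Subtype.val hpq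
    exact ⟨Over.mk (p.1 ≫ W1.hom), Over.homMk p.1 rfl, Over.homMk q.1 hw.symm, L.2, p.2, q.2⟩
  have heq : ∀ (i : ι) {Y W : Over U} (p q : Y ⟶ W) (y : (Φ i).fiber.obj Y.left),
      (Φ i).fiber.map p.left y = (Φ i).fiber.map q.left y → ∃ (Y' : Over U) (m : Y' ⟶ Y)
        (y' : (Φ i).fiber.obj Y'.left), (Φ i).fiber.map m.left y' = y ∧ m ≫ p = m ≫ q := by
    intro i Y W p q y hh
    let el1 : (Φ i).fiber.Elements := ⟨Y.left, y⟩
    let el0 : (Φ i).fiber.Elements := ⟨W.left, (Φ i).fiber.map q.left y⟩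
    let f1 : el1 ⟶ el0 := ⟨p.left, hh⟩
    let f2 : el1 ⟶ el0 := ⟨q.left, rfl⟩
    let m := IsCofiltered.eqHom f1 f2
    have hw : m.1 ≫ p.left = m.1 ≫ q.left := congrArg Subtype.val (IsCofiltered.eq_condition f1 f2)
    exact ⟨Over.mk (m.1 ≫ Y.hom), Over.homMk m.1 rfl, (IsCofiltered.eq f1 f2).2, m.2, Over.OverMorphism.ext hw⟩
  have hex : ∀ (i : ι) (W : Over U) (r : P.P.obj.obj (op W)) (e : (Φ i).fiber.obj W.left), ∃! k, Val i W r e k := by
    intro i W r e
    let e0 := (Φ i).fiber.map W.hom e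
    obtain ⟨Y, a, b, y, hya, hyb⟩ := hrefine i W (Z i e0) e (z i e0) (hz i e0).symm
    obtain ⟨d, hd, -⟩ := ps (op Y) (P.P.obj.map a.op r) (P.P.obj.map b.op (s i e0))
    refine ⟨(d : Fun Φ K Y.left) i y, ?_, fun k hk => (hk e0 rfl Y a b y hya hyb d hd).symm⟩
    intro e1 he1 Y' a' b' y' hya' hyb' d' hd'
    obtain rfl : e0 = e1 := he1
    obtain ⟨Y1, p, q, y1, hp, hq⟩ := hrefine i Y Y' y y' (by
      rw [← Over.w a, ← Over.w a', Functor.map_comp_apply, Functor.map_comp_apply, hya, hya'])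
    obtain ⟨Y2, m, y2, hm, hma⟩ := heq i (p ≫ a) (q ≫ a') y1 (by
      simp only [Over.comp_left, Functor.map_comp_apply, hp, hq, hya, hya'])
    obtain ⟨Y3, n, y3, hn, hnb⟩ := heq i (m ≫ p ≫ b) (m ≫ q ≫ b') y2 (by
      simp only [Over.comp_left, Functor.map_comp_apply, hm, hp, hq, hyb, hyb'])
    have ea : (n ≫ m ≫ p) ≫ a = (n ≫ m ≫ q) ≫ a' := by simp only [Category.assoc, hma]
    have eb : (n ≫ m ≫ p) ≫ b = (n ≫ m ≫ q) ≫ b' := by simpa only [Category.assoc] using hnb
    have h1 := congrArg (P.P.obj.map (n ≫ m ≫ p).op) hd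
    have h2 := congrArg (P.P.obj.map (n ≫ m ≫ q).op) hd'
    rw [P.map_smul, ← ConcreteCategory.comp_apply, ← Functor.map_comp, ← op_comp, ← ConcreteCategory.comp_apply,
      ← Functor.map_comp, ← op_comp] at h1 h2
    rw [← ea, ← eb] at h2
    have := congrArg (fun f : Fun Φ K Y3.left => f i y3) ((ps (op Y3) _ _).unique h1 h2)
    simp only [hnat, Over.comp_left, Functor.map_comp_apply, hn, hm, hp, hq] at this
    exact this.symm
  choose val hval hvalu using hex
  let vf : ∀ (W : Over U), P.P.obj.obj (op W) → ((sheaf Φ K).over U).obj.obj (op W) := fun W r =>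
    (fun i e => val i W r e : Fun Φ K W.left)
  let t : ∀ (W : Over U), P.P.obj.obj (op W) → P.P.obj.obj (op W) := fun W r => P.smul (vf W r) r
  have hconst : ∀ (W : Over U) (r r' : P.P.obj.obj (op W)), t W r = t W r' := by
    intro W r r'
    obtain ⟨h, rfl, -⟩ := ps (op W) r r'
    show P.smul (vf W r) r = P.smul (vf W (P.smul h r)) (P.smul h r)
    rw [← P.mul_smul]
    refine congrArg (fun g => P.smul g r) ?_
    funext i e
    show val i W r e = val i W (P.smul h r) e * (h : Fun Φ K W.left) i e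
    refine (hvalu i W r e _ ?_).symm
    intro e0 he0 Y a b y hya hyb d hd
    have h3 : P.smul (d * (((sheaf Φ K).over U).obj.map a.op h)⁻¹) (P.P.obj.map a.op (P.smul h r)) =
        P.P.obj.map b.op (s i e0) := by
      rw [P.map_smul, ← P.mul_smul, inv_mul_cancel_right, hd]
    have h4 := hval i W (P.smul h r) e e0 he0 Y a b y hya hyb _ h3
    rw [← h4]
    show (d : Fun Φ K Y.left) i y = (d : Fun Φ K Y.left) i y * ((h : Fun Φ K W.left) i ((Φ i).fiber.map a.left y))⁻¹ *
      (h : Fun Φ K W.left) i e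
    rw [hya, inv_mul_cancel_right]
  have htn : ∀ {W W' : Over U} (m : W' ⟶ W) (r : P.P.obj.obj (op W)),
      P.P.obj.map m.op (t W r) = t W' (P.P.obj.map m.op r) := by
    intro W W' m r
    show P.P.obj.map m.op (P.smul (vf W r) r) = P.smul (vf W' (P.P.obj.map m.op r)) (P.P.obj.map m.op r)
    rw [P.map_smul]
    refine congrArg (fun g => P.smul g (P.P.obj.map m.op r)) ?_
    funext i e
    show val i W r ((Φ i).fiber.map m.left e) = val i W' (P.P.obj.map m.op r) e
    refine hvalu i W' _ e _ ?_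
    intro e0 he0 Y a b y hya hyb d hd
    refine hval i W r _ e0 ?_ Y (a ≫ m) b y ?_ hyb d ?_
    · rw [← he0, ← Over.w m]
      exact (Functor.map_comp_apply (Φ i).fiber m.left W.hom e).symm
    · simp only [Over.comp_left, Functor.map_comp_apply, hya]
    · rw [op_comp, Functor.map_comp, ConcreteCategory.comp_apply]; exact hd
  choose S hS hne using P.isTorsor.2
  let x : ∀ W, Presieve.FamilyOfElements P.P.obj (S W).arrows := fun W V a ha => t V (hne W a ha).some
  have hx : ∀ W, (x W).Compatible := fun W Y₁ Y₂ V g₁ g₂ f₁ f₂ h₁ h₂ _ => by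
    show P.P.obj.map g₁.op (t _ _) = P.P.obj.map g₂.op (t _ _)
    rw [htn, htn]
    exact hconst _ _ _
  have hsh := (isSheaf_iff_isSheaf_of_type _ _).mp P.P.property
  let σ : ∀ W : Over U, P.P.obj.obj (op W) := fun W => (hsh (S W) (hS W)).amalgamate (x W) (hx W)
  have hσ : ∀ (W V : Over U) (a : V ⟶ W) (r : P.P.obj.obj (op V)), P.P.obj.map a.op (σ W) = t V r := by
    intro W V a r
    refine (hsh ((S W).pullback a) ((J.over U).pullback_stable a (hS W))).isSeparatedFor.ext fun Y k hk => ?_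
    rw [← ConcreteCategory.comp_apply, ← Functor.map_comp, ← op_comp,
      show P.P.obj.map (k ≫ a).op (σ W) = x W (k ≫ a) hk from (hsh (S W) (hS W)).valid_glue (hx W) (k ≫ a) hk, htn]
    exact hconst _ _ _
  exact Boundary.isTrivial_of_sections P ⟨fun W => σ W.unop, fun {W W'} k => by
    refine (hsh (S W'.unop) (hS W'.unop)).isSeparatedFor.ext fun Y a ha => ?_
    rw [hσ W'.unop Y a (hne _ a ha).some, ← ConcreteCategory.comp_apply, ← Functor.map_comp]
    exact hσ W.unop Y (a ≫ k.unop) _⟩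

end Group

section Germs

variable (F : Sheaf J GrpCat.{u + 1})

/-- The index category of the germs at a point. -/
abbrev El (i : ι) : Type (u + 1) := AsSmall.{u + 1} ((Φ i).fiber.Elementsᵒᵖ)

instance (i : ι) : IsFiltered (El Φ i : Type (u + 1)) :=
  IsFiltered.of_equivalence AsSmall.equiv

/-- The diagram of germs. -/
abbrev diag (i : ι) : El Φ i ⥤ GrpCat.{u + 1} :=
  AsSmall.down ⋙ (CategoryOfElements.π (Φ i).fiber).op ⋙ F.obj

/-- The group of germs at a point. -/
abbrev Stalk (i : ι) : Type (u + 1) := GrpCat.FilteredColimits.G.{u + 1, u + 1} (diag Φ F i)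

/-- The germ map. -/
noncomputable def germ : F ⟶ sheaf Φ (fun i => Stalk Φ F i) :=
  ⟨{ app := fun U => GrpCat.ofHom
      { toFun := fun s i e => (GrpCat.FilteredColimits.colimitCocone.{u + 1, u + 1} (diag Φ F i)).ι.app
          (AsSmall.up.obj (op ((Φ i).fiber.elementsMk U.unop e))) s
        map_one' := by funext i e; exact map_one _
        map_mul' := fun s t => by funext i e; exact map_mul _ _ _ }
     naturality := fun U V k => by
      ext s; funext i e
      exact (ConcreteCategory.congr_hom ((GrpCat.FilteredColimits.colimitCocone.{u + 1, u + 1} (diag Φ F i)).ι.naturality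
        (AsSmall.up.map (CategoryOfElements.homMk ((Φ i).fiber.elementsMk V.unop e)
          ((Φ i).fiber.elementsMk U.unop ((Φ i).fiber.map k.unop e)) k.unop rfl).op)) s) }⟩

theorem germ_injective (hΦ : ∀ ⦃U : C⦄ (S : Sieve U), (∀ i (e : (Φ i).fiber.obj U),
    ∃ (Y : C) (g : Y ⟶ U) (_ : S g) (y : (Φ i).fiber.obj Y), (Φ i).fiber.map g y = e) → S ∈ J U)
    (U : Cᵒᵖ) : Function.Injective ((germ Φ F).hom.app U) := by
  intro s s' h
  let S : Sieve U.unop := Presheaf.equalizerSieve (F := F.obj) s s'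
  have hS : S ∈ J U.unop := hΦ S fun i e => by
    have h1 := congrFun (congrFun h i) e
    have hl := isColimitOfPreserves (forget GrpCat.{u + 1})
      (GrpCat.FilteredColimits.colimitCoconeIsColimit.{u + 1, u + 1} (diag Φ F i))
    obtain ⟨k, f, hf⟩ := (Types.FilteredColimit.isColimit_eq_iff' hl
      (i := AsSmall.up.obj (op ((Φ i).fiber.elementsMk U.unop e))) s s').mp h1
    exact ⟨(AsSmall.down.obj k).unop.1, (AsSmall.down.map f).unop.1, hf, (AsSmall.down.obj k).unop.2,
      (AsSmall.down.map f).unop.2⟩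
  exact ((isSheaf_iff_isSheaf_of_type _ _).mp
    ((Presheaf.isSheaf_iff_isSheaf_comp J _ (forget GrpCat.{u + 1})).mp F.property) S hS).isSeparatedFor.ext
    fun V a ha => ha

end Germs

end Groth.Agent.CechTors.Godement
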