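import Groth.Prelude.Def_NonAbH1
import Mathlib.CategoryTheory.Sites.CoversTop.Basic

/-!
# Torsors with the same Čech cocycle are isomorphic
-/

set_option autoImplicit false

universe w' w v u

open CategoryTheory Opposite

namespace Groth.Agent.CechTors

variable {C : Type u} [Category.{v} C] {J : GrothendieckTopology C} {G : Sheaf J GrpCat.{w}} {I : Type w'}
  {U : I → C}

/-- `q` corresponds to `p` under the morphism matching `s` with `t`. -/
def Rel (P Q : NonAbH1.Torsor G) (s : ∀ i, P.P.obj.obj (op (U i))) (t : ∀ i, Q.P.obj.obj (op (U i)))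
    {T : C} (p : P.P.obj.obj (op T)) (q : Q.P.obj.obj (op T)) : Prop :=
  ∀ (V : C) (a : V ⟶ T) (i : I) (b : V ⟶ U i), ∃ g : G.obj.obj (op V),
    P.smul g (P.P.obj.map b.op (s i)) = P.P.obj.map a.op p ∧
      Q.smul g (Q.P.obj.map b.op (t i)) = Q.P.obj.map a.op q

variable {P Q : NonAbH1.Torsor G} {s : ∀ i, P.P.obj.obj (op (U i))} {t : ∀ i, Q.P.obj.obj (op (U i))}
  {γ : PresheafOfGroups.OneCocycle G.obj U}

theorem Rel.symm {T : C} {p : P.P.obj.obj (op T)} {q : Q.P.obj.obj (op T)} (h : Rel P Q s t p q) :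
    Rel Q P t s q p := fun V a i b => (h V a i b).imp fun _ => And.symm

theorem Rel.map {T T' : C} {p : P.P.obj.obj (op T)} {q : Q.P.obj.obj (op T)} (h : Rel P Q s t p q)
    (f : T' ⟶ T) : Rel P Q s t (P.P.obj.map f.op p) (Q.P.obj.map f.op q) := fun V a i b => by
  simp only [← ConcreteCategory.comp_apply, ← Functor.map_comp, ← op_comp]
  exact h V (a ≫ f) i b

theorem Rel.smul {T : C} {p : P.P.obj.obj (op T)} {q : Q.P.obj.obj (op T)} (h : Rel P Q s t p q)
    (g : G.obj.obj (op T)) : Rel P Q s t (P.smul g p) (Q.smul g q) := fun V a i b => by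
  obtain ⟨g', h1, h2⟩ := h V a i b
  exact ⟨G.obj.map a.op g * g', by rw [P.mul_smul, h1, P.map_smul], by rw [Q.mul_smul, h2, Q.map_smul]⟩

variable (hU : J.CoversTop U)
include hU

theorem Rel.unique {T : C} {p : P.P.obj.obj (op T)} {q q' : Q.P.obj.obj (op T)} (h : Rel P Q s t p q)
    (h' : Rel P Q s t p q') : q = q' := by
  refine (((isSheaf_iff_isSheaf_of_type _ _).mp Q.P.property) _ (hU T)).isSeparatedFor.ext ?_
  rintro V f ⟨i, ⟨b⟩⟩
  obtain ⟨g, h1, h2⟩ := h V f i b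
  obtain ⟨g', h1', h2'⟩ := h' V f i b
  obtain rfl : g = g' := (P.isTorsor.1 (op V) (P.P.obj.map b.op (s i)) (P.P.obj.map f.op p)).unique h1 h1'
  exact h2.symm.trans h2'

theorem exists_rel (hs : P.IsCocycleOf U s γ) (ht : Q.IsCocycleOf U t γ) {T : C} (p : P.P.obj.obj (op T)) :
    ∃ q, Rel P Q s t p q := by
  classical
  have key : ∀ (V : C) (a : V ⟶ T) (i : I) (b : V ⟶ U i) (j : I) (c : V ⟶ U j) (g g' : G.obj.obj (op V)),
      P.smul g (P.P.obj.map b.op (s i)) = P.P.obj.map a.op p →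
      P.smul g' (P.P.obj.map c.op (s j)) = P.P.obj.map a.op p →
      Q.smul g (Q.P.obj.map b.op (t i)) = Q.smul g' (Q.P.obj.map c.op (t j)) := by
    intro V a i b j c g g' hg hg'
    rw [← hs i j b c, ← P.mul_smul] at hg
    have e : g * γ.ev i j b c = g' :=
      (P.isTorsor.1 (op V) (P.P.obj.map c.op (s j)) (P.P.obj.map a.op p)).unique hg hg'
    rw [← ht i j b c, ← Q.mul_smul, e]
  choose g hg _ using fun (V : C) (a : V ⟶ T) (i : I) (b : V ⟶ U i) =>
    P.isTorsor.1 (op V) (P.P.obj.map b.op (s i)) (P.P.obj.map a.op p)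
  let x : Presieve.FamilyOfElements Q.P.obj (Sieve.ofObjects U T).arrows := fun V f hf =>
    Q.smul (g V f hf.choose hf.choose_spec.some) (Q.P.obj.map hf.choose_spec.some.op (t hf.choose))
  have hx : ∀ (V : C) (f : V ⟶ T) (hf : (Sieve.ofObjects U T).arrows f) (i : I) (b : V ⟶ U i),
      x f hf = Q.smul (g V f i b) (Q.P.obj.map b.op (t i)) := fun V f hf i b =>
    key V f _ _ i b _ _ (hg _ _ _ _) (hg _ _ _ _)
  have hnat : ∀ {V W : C} (k : W ⟶ V) (f : V ⟶ T) (i : I) (b : V ⟶ U i),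
      Q.P.obj.map k.op (Q.smul (g V f i b) (Q.P.obj.map b.op (t i))) =
        Q.smul (g W (k ≫ f) i (k ≫ b)) (Q.P.obj.map (k ≫ b).op (t i)) := by
    intro V W k f i b
    have := congrArg (P.P.obj.map k.op) (hg V f i b)
    rw [P.map_smul, ← ConcreteCategory.comp_apply, ← Functor.map_comp, ← op_comp, ← ConcreteCategory.comp_apply,
      ← Functor.map_comp, ← op_comp] at this
    rw [Q.map_smul, ← ConcreteCategory.comp_apply, ← Functor.map_comp, ← op_comp,
      (P.isTorsor.1 (op W) _ _).unique this (hg W (k ≫ f) i (k ≫ b))]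
  have hcomp : x.Compatible := by
    intro Y₁ Y₂ Z k₁ k₂ f₁ f₂ h₁ h₂ e
    obtain ⟨i, ⟨b⟩⟩ := h₁
    obtain ⟨j, ⟨c⟩⟩ := h₂
    rw [show x f₁ _ = _ from hx _ f₁ ⟨i, ⟨b⟩⟩ i b, show x f₂ _ = _ from hx _ f₂ ⟨j, ⟨c⟩⟩ j c, hnat, hnat]
    refine key Z (k₁ ≫ f₁) i _ j _ _ _ (hg _ _ _ _) ?_
    rw [e]
    exact hg _ _ _ _
  have hsf := ((isSheaf_iff_isSheaf_of_type _ _).mp Q.P.property) _ (hU T)
  refine ⟨hsf.amalgamate x hcomp, fun V a i b => ⟨g V a i b, hg V a i b, ?_⟩⟩
  exact ((hsf.valid_glue hcomp a ⟨i, ⟨b⟩⟩).trans (hx _ a ⟨i, ⟨b⟩⟩ i b)).symm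

/-- Two torsors cutting out the same cocycle are equivariantly isomorphic. -/
theorem nonempty_iso (hs : P.IsCocycleOf U s γ) (ht : Q.IsCocycleOf U t γ) :
    Nonempty (P.toGSheaf ≅ Q.toGSheaf) := by
  choose f hf using fun (T : C) (p : P.P.obj.obj (op T)) => exists_rel hU hs ht p
  choose f' hf' using fun (T : C) (q : Q.P.obj.obj (op T)) => exists_rel hU ht hs q
  let F : P.toGSheaf ⟶ Q.toGSheaf :=
    { hom := ⟨{ app := fun T => TypeCat.ofHom (f T.unop)
                naturality := fun T T' k => by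
                  ext p
                  exact Rel.unique hU (hf T'.unop _) ((hf T.unop p).map k.unop) }⟩
      map_smul := fun g p => Rel.unique hU (hf _ _) ((hf _ p).smul g) }
  let F' : Q.toGSheaf ⟶ P.toGSheaf :=
    { hom := ⟨{ app := fun T => TypeCat.ofHom (f' T.unop)
                naturality := fun T T' k => by
                  ext q
                  exact Rel.unique hU (hf' T'.unop _) ((hf' T.unop q).map k.unop) }⟩
      map_smul := fun g q => Rel.unique hU (hf' _ _) ((hf' _ q).smul g) }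
  refine ⟨⟨F, F', ?_, ?_⟩⟩
  · ext T p
    exact Rel.unique hU (hf' T.unop _) (hf T.unop p).symm
  · ext T q
    exact Rel.unique hU (hf T.unop _) (hf' T.unop q).symm

end Groth.Agent.CechTors
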